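import Groth.Agent.BeilCompactLib.Main
import Groth.Prelude.Def_W4stkfunctorsequivp2Beil

/-!
# Compact objects over the Beilinson algebra
-/

set_option autoImplicit false
set_option linter.style.haveILetI false
set_option maxHeartbeats 1000000
set_option backward.isDefEq.respectTransparency false
set_option backward.defeqAttrib.useBackward true

universe w u

open CategoryTheory CategoryTheory.Limits CategoryTheory.Pretriangulated Opposite
open DerivedCategory DerivedCategory.TStructure

namespace Groth.Agent.BeilCompactLib

section General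

variable {R : Type u} [Ring R] [HasDerivedCategory.{w} (ModuleCat.{u} R)] {k : Type u} [Field k] [Algebra k R]
  [Module.Finite k R]

include k in
/-- A bounded compact object has finitely generated cohomology. -/
theorem finite_homology_of_good (hfd : ∀ (M : ModuleCat.{u} R) [Module.Finite R M], GoodMod M) (a : ℤ) :
    ∀ (n : ℕ) (K : DerivedCategory (ModuleCat.{u} R)), K.IsGE a → K.IsLE (a + n - 1) → Good K →
      ∀ i, Module.Finite R ((homologyFunctor (ModuleCat.{u} R) i).obj K)
  | 0, K, hge, hle, _, i => by
    have hz : IsZero K := t.isZero K (a + ((0 : ℕ) : ℤ) - 1) a (by omega)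
    haveI := ModuleCat.subsingleton_of_isZero ((homologyFunctor (ModuleCat.{u} R) i).map_isZero hz)
    infer_instance
  | n + 1, K, hge, hle, hK, i => by
    haveI := hge
    haveI := hle
    let b : ℤ := a + n - 1
    haveI : K.IsLE (b + 1) := t.isLE_of_le K (a + ((n + 1 : ℕ) : ℤ) - 1) (b + 1) (by simp [b]; omega)
    haveI htop := finite_top_of_good k hK (b + 1)
    rcases lt_trichotomy i (b + 1) with hi | rfl | hi
    · let L := (t.truncLE b).obj K
      let G := (t.truncGT b).obj K
      haveI hLge : L.IsGE a := by
        rw [isGE_iff]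
        intro i hi
        by_cases hib : i ≤ b
        · haveI := DerLib.Devissage.isIso_homology_truncLEι K b i hib
          exact (isZero_of_isGE K a i hi).of_iso (asIso ((homologyFunctor _ i).map ((t.truncLEι b).app K)))
        · exact isZero_of_isLE L b i (by omega)
      haveI : G.IsLE (b + 1) := by
        rw [isLE_iff]
        intro i hi
        haveI := DerLib.Devissage.isIso_homology_truncGTπ K b i (by omega)
        exact (isZero_of_isLE K (b + 1) i hi).of_iso
          (asIso ((homologyFunctor _ i).map ((t.truncGTπ b).app K))).symm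
      haveI : G.IsGE (b + 1) := inferInstance
      obtain ⟨e⟩ := DerLib.Devissage.nonempty_iso_single G (b + 1)
      haveI := DerLib.Devissage.isIso_homology_truncGTπ K b (b + 1) (by omega)
      have hG : Good G := (good_single_shift (show GoodMod ((homologyFunctor (ModuleCat.{u} R) (b + 1)).obj K) from hfd _) (b + 1)).of_iso
        ((singleFunctor _ (b + 1)).mapIso (asIso ((homologyFunctor _ (b + 1)).map ((t.truncGTπ b).app K))) ≪≫ e.symm)
      have hL : Good L := good_obj₁ ((t.triangleLEGT b).obj K) (t.triangleLEGT_distinguished b K) hK hG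
      haveI := finite_homology_of_good hfd a n L hLge (t.isLE_of_le L b _ le_rfl) hL i
      haveI := DerLib.Devissage.isIso_homology_truncLEι K b i (by omega)
      exact Module.Finite.equiv (asIso ((homologyFunctor (ModuleCat.{u} R) i).map ((t.truncLEι b).app K))).toLinearEquiv
    · exact htop
    · haveI := ModuleCat.subsingleton_of_isZero (isZero_of_isLE K (b + 1) i hi)
      infer_instance

include k in
/-- The criterion. -/
theorem good_iff (hfd : ∀ (M : ModuleCat.{u} R) [Module.Finite R M], GoodMod M)
    (K : DerivedCategory (ModuleCat.{u} R)) :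
    Good K ↔ (∀ i, Module.Finite R ((homologyFunctor (ModuleCat.{u} R) i).obj K)) ∧
      Set.Finite {i : ℤ | Nontrivial ((homologyFunctor (ModuleCat.{u} R) i).obj K)} := by
  have hbd : Set.Finite {i : ℤ | Nontrivial ((homologyFunctor (ModuleCat.{u} R) i).obj K)} →
      ∃ (a : ℤ) (n : ℕ), K.IsGE a ∧ K.IsLE (a + n - 1) := fun hf => by
    obtain ⟨a, ha⟩ := hf.bddBelow
    obtain ⟨b, hb⟩ := hf.bddAbove
    refine ⟨a, (b - a + 1).toNat, (isGE_iff _ _).2 fun i hi => ?_, (isLE_iff _ _).2 fun i hi => ?_⟩
    · exact ModuleCat.isZero_iff_subsingleton.2 (not_nontrivial_iff_subsingleton.1 fun h =>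
        absurd (ha h) (by omega))
    · exact ModuleCat.isZero_iff_subsingleton.2 (not_nontrivial_iff_subsingleton.1 fun h =>
        absurd (hb h) (by omega))
  constructor
  · intro hK
    obtain ⟨a, n, hge, hle⟩ := hbd (finite_support_of_good hK)
    exact ⟨finite_homology_of_good (k := k) hfd a n K hge hle hK, finite_support_of_good hK⟩
  · rintro ⟨hfin, hf⟩
    obtain ⟨a, n, hge, hle⟩ := hbd hf
    exact good_of_homology a n K hge hle fun i => haveI := hfin i; hfd _

end General

section Beilinson

variable (k : Type u) [Field k] (n : ℕ)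

open MvPolynomial

local notation "A" => DEquiv.beilinsonAlg k n

/-- The diagonal idempotents. -/
noncomputable def idem (i : Fin (n + 1)) : A :=
  ⟨Matrix.single i i 1, fun a b => by
    refine ⟨fun hba => Matrix.single_apply_of_ne _ _ _ _ _ fun h => ?_, ?_⟩
    · obtain ⟨rfl, rfl⟩ := h
      exact lt_irrefl _ hba
    · by_cases h : i = a ∧ i = b
      · obtain ⟨rfl, rfl⟩ := h
        rw [Matrix.single_apply_same, Nat.sub_self]
        exact isHomogeneous_one _ _
      · rw [Matrix.single_apply_of_ne _ _ _ _ _ h]
        exact isHomogeneous_zero _ _ _⟩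

theorem sum_idem : ∑ i, idem k n i = 1 := by
  refine Subtype.ext ?_
  simp only [AddSubmonoidClass.coe_finset_sum, idem, OneMemClass.coe_one]
  exact Matrix.sum_single_one

theorem idem_mul_idem (i : Fin (n + 1)) : idem k n i * idem k n i = idem k n i :=
  Subtype.ext ((Matrix.single_mul_single_same (c := (1 : MvPolynomial (Fin (n + 1)) k)) (d := 1) i i i).trans
    (congrArg _ (one_mul 1)))

theorem idem_mul_ne (i j : Fin (n + 1)) (h : i ≠ j) : idem k n i * idem k n j = 0 :=
  Subtype.ext (Matrix.single_mul_single_of_ne (c := (1 : MvPolynomial (Fin (n + 1)) k)) i i j h 1)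

theorem idem_sandwich (i j : Fin (n + 1)) (r : A) :
    (idem k n i * r * idem k n j).1 = Matrix.single i j (r.1 i j) := by
  refine Matrix.ext fun a b => ?_
  show ((Matrix.single i i (1 : MvPolynomial (Fin (n + 1)) k) * r.1 * Matrix.single j j 1 :
    Matrix (Fin (n + 1)) (Fin (n + 1)) (MvPolynomial (Fin (n + 1)) k))) a b = _
  by_cases hb : b = j
  · subst hb
    rw [Matrix.mul_single_apply_same, mul_one]
    by_cases ha : a = i
    · subst ha
      rw [Matrix.single_mul_apply_same, one_mul, Matrix.single_apply_same]
    · rw [Matrix.single_mul_apply_of_ne _ _ _ _ _ ha, Matrix.single_apply_of_ne _ _ _ _ _ fun h => ha h.1.symm]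
  · rw [Matrix.mul_single_apply_of_ne _ _ _ _ _ hb, Matrix.single_apply_of_ne _ _ _ _ _ fun h => hb h.2.symm]

theorem idem_tri (i j : Fin (n + 1)) (h : (j : ℕ) < i) (r : A) : idem k n i * r * idem k n j = 0 :=
  Subtype.ext ((idem_sandwich k n i j r).trans (by rw [(r.2 i j).1 h, Matrix.single_zero]; rfl))

theorem idem_diag (m : Fin (n + 1)) (r : A) :
    ∃ c : k, idem k n m * r * idem k n m = algebraMap k A c * idem k n m := by
  have h0 : (r.1 m m).IsHomogeneous 0 := by simpa using (r.2 m m).2
  refine ⟨MvPolynomial.coeff 0 (r.1 m m), Subtype.ext ?_⟩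
  rw [idem_sandwich, ← Algebra.smul_def]
  show _ = MvPolynomial.coeff 0 (r.1 m m) • Matrix.single m m (1 : MvPolynomial (Fin (n + 1)) k)
  rw [Matrix.smul_single, MvPolynomial.smul_eq_C_mul, mul_one]
  exact congrArg _ (MvPolynomial.totalDegree_eq_zero_iff_eq_C.1 ((MvPolynomial.totalDegree_zero_iff_isHomogeneous _).2 h0))

instance finite_alg : Module.Finite k A := by
  haveI : Module.Finite k (MvPolynomial.restrictTotalDegree (Fin (n + 1)) k n) := inferInstance
  let f : A →ₗ[k] (Fin (n + 1) → Fin (n + 1) → MvPolynomial.restrictTotalDegree (Fin (n + 1)) k n) :=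
    { toFun := fun r i j => ⟨r.1 i j, (MvPolynomial.mem_restrictTotalDegree _ _ _).2
        ((r.2 i j).2.totalDegree_le.trans (by omega))⟩
      map_add' := fun r s => rfl
      map_smul' := fun c r => rfl }
  exact Module.Finite.of_injective f fun r s h => Subtype.ext (Matrix.ext fun i j =>
    congrArg Subtype.val (congrFun (congrFun h i) j))

end Beilinson

end Groth.Agent.BeilCompactLib
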