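import Groth.Agent.KFlatLib.DerivedCoprod
import Groth.Agent.DerLib.Devissage
import Mathlib

/-!
# Compact objects in derived categories of modules over a ring
-/

set_option autoImplicit false
set_option linter.style.haveILetI false
set_option maxHeartbeats 1000000
set_option backward.isDefEq.respectTransparency false
set_option backward.defeqAttrib.useBackward true

universe w u

open CategoryTheory CategoryTheory.Limits CategoryTheory.Pretriangulated Opposite
open DerivedCategory DerivedCategory.TStructure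

namespace Groth.Agent.BeilCompactLib

section Cut

variable {D : Type*} [Category D] [Preadditive D] {J : Type*} (E : J → D) [HasCoproduct E]

open Classical in
/-- The idempotent cutting out a finite subfamily. -/
noncomputable def cut (s : Finset J) : ∐ E ⟶ ∐ E :=
  Sigma.desc fun j => if j ∈ s then Sigma.ι E j else 0

open Classical in
/-- The projection to one summand. -/
noncomputable def pr (j : J) : ∐ E ⟶ E j :=
  Sigma.desc fun i => if h : i = j then eqToHom (congrArg E h) else 0

open Classical in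
theorem ι_cut (s : Finset J) (j : J) : Sigma.ι E j ≫ cut E s = if j ∈ s then Sigma.ι E j else 0 :=
  Sigma.ι_desc _ _

theorem ι_pr_self (j : J) : Sigma.ι E j ≫ pr E j = 𝟙 _ := by simp [pr]

theorem ι_pr_ne {i j : J} (h : i ≠ j) : Sigma.ι E i ≫ pr E j = 0 := by simp [pr, h]

theorem cut_comp_pr (s : Finset J) {j : J} (hj : j ∉ s) : cut E s ≫ pr E j = 0 := by
  classical
  refine Sigma.hom_ext _ _ fun i => ?_
  rw [← Category.assoc, ι_cut, comp_zero]
  by_cases hi : i ∈ s
  · rw [if_pos hi, ι_pr_ne E (ne_of_mem_of_not_mem hi hj)]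
  · rw [if_neg hi, zero_comp]

theorem cut_cut {s t : Finset J} (h : s ⊆ t) : cut E s ≫ cut E t = cut E s := by
  classical
  refine Sigma.hom_ext _ _ fun j => ?_
  rw [← Category.assoc, ι_cut]
  by_cases hj : j ∈ s
  · rw [if_pos hj, ι_cut, if_pos (h hj)]
  · rw [if_neg hj, zero_comp]

theorem fix_of_subset {s t : Finset J} (h : s ⊆ t) {K : D} {f : K ⟶ ∐ E} (hf : f ≫ cut E s = f) :
    f ≫ cut E t = f := by
  rw [← hf, Category.assoc, cut_cut E h]

theorem comp_cut (s : Finset J) {K : D} (f : K ⟶ ∐ E) :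
    f ≫ cut E s = ∑ j ∈ s, (f ≫ pr E j) ≫ Sigma.ι E j := by
  classical
  have h : cut E s = ∑ j ∈ s, pr E j ≫ Sigma.ι E j := by
    refine Sigma.hom_ext _ _ fun i => ?_
    rw [ι_cut, Preadditive.comp_sum]
    by_cases hi : i ∈ s
    · rw [if_pos hi, Finset.sum_eq_single_of_mem i hi (fun j _ hj => by
        rw [← Category.assoc, ι_pr_ne E hj.symm, zero_comp]), ← Category.assoc, ι_pr_self, Category.id_comp]
    · rw [if_neg hi, Finset.sum_eq_zero fun j hj => by
        rw [← Category.assoc, ι_pr_ne E (ne_of_mem_of_not_mem hj hi).symm, zero_comp]]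
  rw [h, Preadditive.comp_sum]
  simp only [Category.assoc]

end Cut

variable {R : Type u} [Ring R] [HasDerivedCategory.{w} (ModuleCat.{u} R)]

theorem hasCoproducts : HasCoproducts.{u} (DerivedCategory (ModuleCat.{u} R)) := fun J => ⟨fun F => by
  let P := fun j : J => DerivedCategory.Q.objPreimage (F.obj ⟨j⟩)
  exact ⟨⟨⟨_, (IsColimit.precomposeInvEquiv (Discrete.natIso fun i =>
    DerivedCategory.Q.objObjPreimageIso (F.obj i) : Discrete.functor (fun j => DerivedCategory.Q.obj (P j)) ≅ F)
      _).symm (KFlatLib.isColimit_Q_sigma P).some⟩⟩⟩⟩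

instance hasCoproduct {J : Type u} (E : J → DerivedCategory (ModuleCat.{u} R)) : HasCoproduct E := by
  haveI := hasCoproducts (R := R) J
  infer_instance

/-- Maps out of `K` into coproducts factor through finitely many summands. -/
def Good (K : DerivedCategory (ModuleCat.{u} R)) : Prop :=
  ∀ (J : Type u) (E : J → DerivedCategory (ModuleCat.{u} R)) (f : K ⟶ ∐ E), ∃ s, f ≫ cut E s = f

variable {K : DerivedCategory (ModuleCat.{u} R)}

theorem Good.of_iso {K' : DerivedCategory (ModuleCat.{u} R)} (e : K ≅ K') (h : Good K) : Good K' :=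
  fun J E f => by
    obtain ⟨s, hs⟩ := h J E (e.hom ≫ f)
    exact ⟨s, by rwa [Category.assoc, cancel_epi] at hs⟩

theorem good_of_isZero (h : IsZero K) : Good K := fun _ _ _ => ⟨∅, h.eq_of_src _ _⟩

theorem good_obj₂ (T : Triangle (DerivedCategory (ModuleCat.{u} R))) (hT : T ∈ distTriang _) (h₁ : Good T.obj₁)
    (h₃ : Good T.obj₃) : Good T.obj₂ := fun J E f => by
  classical
  obtain ⟨s, hs⟩ := h₁ J E (T.mor₁ ≫ f)
  have hk : T.mor₁ ≫ (f - f ≫ cut E s) = 0 := by
    rw [Preadditive.comp_sub, ← Category.assoc, hs, sub_self]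
  obtain ⟨g, hg⟩ := Triangle.yoneda_exact₂ T hT _ hk
  obtain ⟨t, ht⟩ := h₃ J E g
  refine ⟨s ∪ t, ?_⟩
  have h1 : (f - f ≫ cut E s) ≫ cut E (s ∪ t) = f - f ≫ cut E s := by
    rw [hg, Category.assoc, fix_of_subset E Finset.subset_union_right ht]
  rw [Preadditive.sub_comp, Category.assoc, cut_cut E Finset.subset_union_left] at h1
  exact sub_left_injective h1

theorem Good.shift (h : Good K) (n : ℤ) : Good (K⟦n⟧) := fun J E f => by
  classical
  let F := shiftFunctor (DerivedCategory (ModuleCat.{u} R)) (-n)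
  let c : F.obj (∐ E) ≅ ∐ fun j => F.obj (E j) := PreservesCoproduct.iso F E
  let e : K ≅ F.obj (K⟦n⟧) := ((shiftFunctorCompIsoId _ n (-n) (by omega)).app K).symm
  obtain ⟨s, hs⟩ := h J (fun j => F.obj (E j)) (e.hom ≫ F.map f ≫ c.hom)
  refine ⟨s, F.map_injective ?_⟩
  have hc : F.map (cut E s) ≫ c.hom = c.hom ≫ cut (fun j => F.obj (E j)) s := by
    rw [← cancel_epi c.inv, Iso.inv_hom_id_assoc]
    refine Sigma.hom_ext _ _ fun j => ?_
    simp only [c, PreservesCoproduct.inv_hom, ι_comp_sigmaComparison_assoc, ← Functor.map_comp_assoc, ι_cut]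
    by_cases hj : j ∈ s
    · rw [if_pos hj, if_pos hj, ← ι_comp_sigmaComparison, Category.assoc, ← PreservesCoproduct.inv_hom,
        Iso.inv_hom_id, Category.comp_id]
    · rw [if_neg hj, if_neg hj, Functor.map_zero, zero_comp]
  rw [← cancel_epi e.hom, ← cancel_mono c.hom, F.map_comp, Category.assoc, Category.assoc, hc]
  simpa only [Category.assoc] using hs

theorem good_of_shift (n : ℤ) (h : Good (K⟦n⟧)) : Good K :=
  (h.shift (-n)).of_iso ((shiftFunctorCompIsoId _ n (-n) (by omega)).app K)

theorem good_obj₁ (T : Triangle (DerivedCategory (ModuleCat.{u} R))) (hT : T ∈ distTriang _) (h₂ : Good T.obj₂)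
    (h₃ : Good T.obj₃) : Good T.obj₁ :=
  good_obj₂ _ (inv_rot_of_distTriang _ hT) (h₃.shift (-1)) h₂

theorem good_obj₃ (T : Triangle (DerivedCategory (ModuleCat.{u} R))) (hT : T ∈ distTriang _) (h₁ : Good T.obj₁)
    (h₂ : Good T.obj₂) : Good T.obj₃ :=
  good_obj₂ _ (rot_of_distTriang _ hT) h₂ (h₁.shift 1)

/-- Compact objects, as functors preserving coproducts. -/
theorem preserves_of_good (h : Good K) (J : Type u) :
    PreservesColimitsOfShape (Discrete J) (preadditiveCoyoneda.obj (op K)) := ⟨fun {F} => by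
  classical
  let E : J → DerivedCategory (ModuleCat.{u} R) := fun j => F.obj ⟨j⟩
  suffices hE : PreservesColimit (Discrete.functor E) (preadditiveCoyoneda.obj (op K)) by
    haveI := hE
    exact @preservesColimit_of_iso_diagram _ _ _ _ _ _ (Discrete.functor E) F _ (Discrete.natIsoFunctor (F := F)).symm hE
  have hfin : ∀ f : K ⟶ ∐ E, {j | f ≫ pr E j ≠ 0}.Finite := fun f => by
    obtain ⟨s, hs⟩ := h J E f
    refine s.finite_toSet.subset fun j hj => by_contra fun hjs => hj ?_
    rw [← hs, Category.assoc, cut_comp_pr E s hjs, comp_zero]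
  refine preservesColimit_of_preserves_colimit_cocone (coproductIsCoproduct E)
    ((Cofan.isColimitMapCoconeEquiv _ _ (Cofan.mk (∐ E) (Sigma.ι E))).symm (Cofan.IsColimit.mk _
      (fun t => AddCommGrpCat.ofHom (AddMonoidHom.mk' (fun f : K ⟶ ∐ E => ∑ᶠ j, (t.inj j).hom (f ≫ pr E j))
        fun f g => ?_)) (fun t j => ?_) (fun t m hm => ?_)))
  · have hs : ∀ f : K ⟶ ∐ E, (Function.support fun j => (t.inj j).hom (f ≫ pr E j)).Finite := fun f =>
      (hfin f).subset fun j hj h0 => hj (by
        show (t.inj j).hom (f ≫ pr E j) = 0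
        rw [h0, map_zero])
    exact (finsum_congr fun j => by rw [Preadditive.add_comp]; exact map_add (t.inj j).hom _ _).trans
      (finsum_add_distrib (hs f) (hs g))
  · refine AddCommGrpCat.ext fun x => ?_
    show (∑ᶠ i, (t.inj i).hom ((x ≫ Sigma.ι E j) ≫ pr E i)) = (t.inj j).hom x
    rw [finsum_eq_single _ j (fun i hi => by rw [Category.assoc, ι_pr_ne E hi.symm, comp_zero, map_zero]),
      Category.assoc, ι_pr_self, Category.comp_id]
  · refine AddCommGrpCat.ext fun f => ?_
    show m.hom f = ∑ᶠ j, (t.inj j).hom (f ≫ pr E j)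
    obtain ⟨s, hs⟩ := h J E f
    rw [finsum_eq_sum_of_support_subset _ (s := s) (fun j hj => by_contra fun hjs => hj (by
      show (t.inj j).hom (f ≫ pr E j) = 0
      rw [← hs, Category.assoc, cut_comp_pr E s hjs, comp_zero, map_zero]))]
    conv_lhs => rw [← hs, comp_cut]
    rw [map_sum]
    exact Finset.sum_congr rfl fun j _ => congrArg (fun φ => φ.hom (f ≫ pr E j)) (hm j)⟩

theorem good_of_preserves (h : ∀ J : Type u, PreservesColimitsOfShape (Discrete J) (preadditiveCoyoneda.obj (op K))) :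
    Good K := fun J E f => by
  classical
  haveI := h J
  let G := preadditiveCoyoneda.obj (op K)
  let c := Cofan.isColimitMapCoconeEquiv G _ (Cofan.mk (∐ E) (Sigma.ι E)) (isColimitOfPreserves G (coproductIsCoproduct E))
  let H : AddSubgroup (K ⟶ ∐ E) :=
    { carrier := {g | ∃ s, g ≫ cut E s = g}
      add_mem' := fun {a b} ⟨s, hs⟩ ⟨t, ht⟩ => ⟨s ∪ t, by
        rw [Preadditive.add_comp, fix_of_subset E Finset.subset_union_left hs,
          fix_of_subset E Finset.subset_union_right ht]⟩
      zero_mem' := ⟨∅, zero_comp⟩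
      neg_mem' := fun {a} ⟨s, hs⟩ => ⟨s, by rw [Preadditive.neg_comp, hs]⟩ }
  let q : G.obj (∐ E) ⟶ AddCommGrpCat.of ((K ⟶ ∐ E) ⧸ H) := AddCommGrpCat.ofHom (QuotientAddGroup.mk' H)
  have hq : q = 0 := Cofan.IsColimit.hom_ext c _ _ fun j => by
    refine AddCommGrpCat.ext fun x => ?_
    exact (QuotientAddGroup.eq_zero_iff (N := H) (x ≫ Sigma.ι E j)).2
      ⟨{j}, by rw [Category.assoc, ι_cut, if_pos (Finset.mem_singleton_self j)]⟩
  exact (QuotientAddGroup.eq_zero_iff (N := H) f).1 (congrArg (fun φ => φ.hom f) hq)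

/-- Finitely generated projectives in degree zero are compact. -/
theorem good_single_projective (P : ModuleCat.{u} R) [Projective P] [Module.Finite R P] :
    Good ((DerivedCategory.singleFunctor (ModuleCat.{u} R) 0).obj P) := fun J E f => by
  classical
  let C : J → CochainComplex (ModuleCat.{u} R) ℤ := fun j => DerivedCategory.Q.objPreimage (E j)
  let ε := fun j => DerivedCategory.Q.objObjPreimageIso (E j)
  let hc := (KFlatLib.isColimit_Q_sigma C).some
  let e : (∐ E) ≅ DerivedCategory.Q.obj (∐ C) :=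
    { hom := Sigma.desc fun j => (ε j).inv ≫ DerivedCategory.Q.map (Sigma.ι C j)
      inv := Cofan.IsColimit.desc hc fun j => (ε j).hom ≫ Sigma.ι E j
      hom_inv_id := Sigma.hom_ext _ _ fun j => by
        rw [Sigma.ι_desc_assoc, Category.assoc, Category.comp_id]
        exact (congrArg (_ ≫ ·) (Cofan.IsColimit.fac hc _ j)).trans (Iso.inv_hom_id_assoc _ _)
      inv_hom_id := Cofan.IsColimit.hom_ext hc _ _ fun j => by
        refine (Category.assoc _ _ _).symm.trans ((congrArg (· ≫ _) (Cofan.IsColimit.fac hc _ j)).trans ?_)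
        rw [Category.assoc, Sigma.ι_desc, Iso.hom_inv_id_assoc]
        exact (Category.comp_id _).symm }
  let S := (CochainComplex.singleFunctor (ModuleCat.{u} R) 0).obj P
  let u₀ := (DerivedCategory.singleFunctorIsoCompQ (ModuleCat.{u} R) 0).app P
  haveI hS : S.IsKProjective := by
    haveI : ∀ n, Projective (S.X n) := fun n => by
      by_cases hn : n = 0
      · subst hn
        exact Projective.of_iso (HomologicalComplex.singleObjXSelf (ComplexShape.up ℤ) 0 P).symm inferInstance
      · exact (HomologicalComplex.isZero_single_obj_X _ _ _ _ hn).projective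
    exact CochainComplex.isKProjective_of_projective _ 0
  obtain ⟨γ, hγ⟩ := (CochainComplex.IsKProjective.Qh_map_bijective S _).2
    ((DerivedCategory.quotientCompQhIso _).hom.app S ≫ (u₀.inv ≫ f ≫ e.hom) ≫
      (DerivedCategory.quotientCompQhIso _).inv.app (∐ C))
  obtain ⟨g, rfl⟩ := (HomotopyCategory.quotient _ _).map_surjective γ
  have hg : DerivedCategory.Q.map g = u₀.inv ≫ f ≫ e.hom := by
    rw [← cancel_epi ((DerivedCategory.quotientCompQhIso _).hom.app S),
      ← cancel_mono ((DerivedCategory.quotientCompQhIso _).inv.app (∐ C)), Category.assoc, Category.assoc, ← hγ,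
      ← DerivedCategory.quotientCompQhIso_hom_naturality_assoc, Iso.hom_inv_id_app]
    exact Category.comp_id _
  let M := (∐ C).X 0
  let c0 : IsColimit (Cofan.mk M fun j => (Sigma.ι C j).f 0 : Cofan fun j => (C j).X 0) :=
    Cofan.isColimitMapCoconeEquiv (HomologicalComplex.eval _ _ 0) _ (Cofan.mk (∐ C) (Sigma.ι C))
      (isColimitOfPreserves _ (coproductIsCoproduct C))
  have hmono : ∀ {s t : Finset J}, s ⊆ t → ∀ x : M, ((cut C s).f 0) x = x → ((cut C t).f 0) x = x := by
    intro s t hst x hx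
    calc ((cut C t).f 0) x = ((cut C t).f 0) (((cut C s).f 0) x) := by rw [hx]
      _ = ((cut C s ≫ cut C t).f 0) x := rfl
      _ = x := by rw [cut_cut C hst, hx]
  let U : Submodule R M :=
    { carrier := {x | ∃ s, ((cut C s).f 0) x = x}
      add_mem' := fun {a b} ⟨s, hs⟩ ⟨t, ht⟩ => ⟨s ∪ t, by
        rw [map_add, hmono Finset.subset_union_left a hs, hmono Finset.subset_union_right b ht]⟩
      zero_mem' := ⟨∅, map_zero _⟩
      smul_mem' := fun r a ⟨s, hs⟩ => ⟨s, by rw [map_smul, hs]⟩ }
  have hU : ∀ x : M, x ∈ U := fun x => by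
    let q : M ⟶ ModuleCat.of R (M ⧸ U) := ModuleCat.ofHom U.mkQ
    have hq : q = 0 := Cofan.IsColimit.hom_ext c0 _ _ fun j => ModuleCat.hom_ext (LinearMap.ext fun y =>
      (Submodule.Quotient.mk_eq_zero U).2 ⟨{j}, by
        show ((Sigma.ι C j ≫ cut C {j}).f 0) y = _
        rw [ι_cut, if_pos (Finset.mem_singleton_self j)]
        rfl⟩)
    exact (Submodule.Quotient.mk_eq_zero U).1 (congrArg (fun φ => φ.hom x) hq)
  let a : P ⟶ M := (HomologicalComplex.singleObjXSelf (ComplexShape.up ℤ) 0 P).inv ≫ g.f 0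
  obtain ⟨G, hG⟩ := Module.Finite.fg_top (R := R) (M := P)
  choose σ hσ using hU
  let s := G.biUnion fun p => σ (a.hom p)
  have ha : a ≫ (cut C s).f 0 = a := ModuleCat.hom_ext (LinearMap.ext_on (hG : Submodule.span R _ = ⊤) fun p hp =>
    hmono (Finset.subset_biUnion_of_mem (fun p => σ (a.hom p)) hp) _ (hσ _))
  have hgs : g ≫ cut C s = g := by
    refine HomologicalComplex.from_single_hom_ext ?_
    rw [HomologicalComplex.comp_f, ← cancel_epi (HomologicalComplex.singleObjXSelf (ComplexShape.up ℤ) 0 P).inv]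
    exact (Category.assoc _ _ _).symm.trans ha
  refine ⟨s, ?_⟩
  have hcut : e.hom ≫ DerivedCategory.Q.map (cut C s) = cut E s ≫ e.hom := Sigma.hom_ext _ _ fun j => by
    rw [← Category.assoc, ← Category.assoc, ι_cut, Sigma.ι_desc, Category.assoc, ← Functor.map_comp, ι_cut]
    by_cases hj : j ∈ s
    · rw [if_pos hj, if_pos hj, Sigma.ι_desc]
    · rw [if_neg hj, if_neg hj, Functor.map_zero, comp_zero, zero_comp]
  haveI : IsIso e.hom := e.isIso_hom
  rw [← cancel_mono e.hom, Category.assoc, ← hcut, ← cancel_epi u₀.inv]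
  have h2 := congrArg (DerivedCategory.Q.map ·) hgs
  simp only [Functor.map_comp, hg, Category.assoc] at h2
  exact h2

end Groth.Agent.BeilCompactLib
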