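import Groth.Agent.BeilCompactLib.Good

/-!
# Compact objects over a triangular finite-dimensional algebra
-/

set_option autoImplicit false
set_option linter.style.haveILetI false
set_option maxHeartbeats 1000000
set_option backward.isDefEq.respectTransparency false
set_option backward.defeqAttrib.useBackward true

universe w u

open CategoryTheory CategoryTheory.Limits CategoryTheory.Pretriangulated Opposite
open DerivedCategory DerivedCategory.TStructure

namespace Groth.Agent.BeilCompactLib

variable {R : Type u} [Ring R] [HasDerivedCategory.{w} (ModuleCat.{u} R)]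

theorem good_single_shift {M : ModuleCat.{u} R}
    (h : Good ((DerivedCategory.singleFunctor (ModuleCat.{u} R) 0).obj M)) (i : ℤ) :
    Good ((DerivedCategory.singleFunctor (ModuleCat.{u} R) i).obj M) :=
  good_of_shift i (h.of_iso ((((DerivedCategory.singleFunctors (ModuleCat.{u} R)).shiftIso i 0 i (by omega)).app M)).symm)

section Module

/-- Compactness of a module in degree zero. -/
def GoodMod (M : ModuleCat.{u} R) : Prop := Good ((DerivedCategory.singleFunctor (ModuleCat.{u} R) 0).obj M)

theorem goodMod_of_isZero {M : ModuleCat.{u} R} (h : IsZero M) : GoodMod M :=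
  good_of_isZero ((DerivedCategory.singleFunctor (ModuleCat.{u} R) 0).map_isZero h)

/-- The short exact sequence of a linear surjection. -/
theorem shortExact_of_surjective {M Q : ModuleCat.{u} R} (π : M ⟶ Q) (hπ : Function.Surjective π) :
    ∃ S : ShortComplex (ModuleCat.{u} R), S.ShortExact ∧ S.X₁ = ModuleCat.of R (LinearMap.ker π.hom) ∧
      S.X₂ = M ∧ S.X₃ = Q := by
  let i : ModuleCat.of R (LinearMap.ker π.hom) ⟶ M := ModuleCat.ofHom (LinearMap.ker π.hom).subtype
  let S : ShortComplex (ModuleCat.{u} R) :=
    ShortComplex.mk i π (ModuleCat.hom_ext (LinearMap.ext fun x => x.2))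
  haveI : Mono S.f := (ModuleCat.mono_iff_injective _).2 Subtype.coe_injective
  haveI : Epi S.g := (ModuleCat.epi_iff_surjective _).2 hπ
  exact ⟨S, ⟨(ShortComplex.moduleCat_exact_iff S).2 fun x hx => ⟨⟨x, hx⟩, rfl⟩⟩, rfl, rfl, rfl⟩

theorem goodMod_of_surjective {M Q : ModuleCat.{u} R} (π : M ⟶ Q) (hπ : Function.Surjective π)
    (hK : GoodMod (ModuleCat.of R (LinearMap.ker π.hom))) :
    (GoodMod Q → GoodMod M) ∧ (GoodMod M → GoodMod Q) := by
  obtain ⟨S, hS, h1, h2, h3⟩ := shortExact_of_surjective π hπ
  have hK' : Good hS.singleTriangle.obj₁ := by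
    show GoodMod S.X₁
    rw [h1]; exact hK
  refine ⟨fun h => ?_, fun h => ?_⟩
  · have h' : Good hS.singleTriangle.obj₃ := by
      show GoodMod S.X₃
      rw [h3]; exact h
    have := good_obj₂ _ hS.singleTriangle_distinguished hK' h'
    have h'' : GoodMod S.X₂ := this
    rwa [h2] at h''
  · have h' : Good hS.singleTriangle.obj₂ := by
      show GoodMod S.X₂
      rw [h2]; exact h
    have := good_obj₃ _ hS.singleTriangle_distinguished hK' h'
    have h'' : GoodMod S.X₃ := this
    rwa [h3] at h''

variable {k : Type u} [Field k] [Algebra k R] [Module.Finite k R] {N : ℕ} (e : Fin N → R)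
  (hsum : ∑ i, e i = 1) (hidem : ∀ i, e i * e i = e i) (horth : ∀ i j, i ≠ j → e i * e j = 0)
  (htri : ∀ i j : Fin N, (j : ℕ) < i → ∀ r : R, e i * r * e j = 0)
  (hdiag : ∀ m, ∀ r : R, ∃ c : k, e m * r * e m = algebraMap k R c * e m)

include hsum hidem horth htri hdiag in
/-- Finitely generated modules are compact. -/
theorem goodMod_of_supp : ∀ (m : ℕ) (M : ModuleCat.{u} R) [Module.Finite R M],
    (∀ i : Fin N, m ≤ (i : ℕ) → ∀ v : M, e i • v = 0) → GoodMod M
  | 0, M, _, h => by
    refine goodMod_of_isZero (ModuleCat.isZero_iff_subsingleton.2 (subsingleton_of_forall_eq 0 fun v => ?_))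
    rw [← one_smul R v, ← hsum, Finset.sum_smul]
    exact Finset.sum_eq_zero fun i _ => h i (Nat.zero_le _) v
  | m + 1, M, _, h => by
    haveI : IsNoetherianRing R := IsNoetherianRing.of_finite k R
    by_cases hm : N ≤ m
    · exact goodMod_of_supp m M fun i hi => absurd (lt_of_lt_of_le i.2 (hm.trans hi)) (lt_irrefl _)
    let j : Fin N := ⟨m, by omega⟩
    have hstable : ∀ (v : M), e j • v = 0 → ∀ r : R, e j • (r • v) = 0 := by
      intro v hv r
      have hdec : v = ∑ i, e i • v := by rw [← Finset.sum_smul, hsum, one_smul]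
      rw [smul_smul, hdec, Finset.smul_sum]
      refine Finset.sum_eq_zero fun i _ => ?_
      rw [smul_smul]
      rcases lt_trichotomy (i : ℕ) m with hi | hi | hi
      · rw [htri j i hi r, zero_smul]
      · obtain rfl : i = j := Fin.ext hi
        obtain ⟨c, hc⟩ := hdiag j r
        rw [hc, mul_smul, hv, smul_zero]
      · rw [mul_smul, h i hi v, smul_zero]
    let Nm : Submodule R M :=
      { carrier := {v | e j • v = 0}
        add_mem' := fun {a b} ha hb => by
          show e j • (a + b) = 0
          rw [smul_add, show e j • a = 0 from ha, show e j • b = 0 from hb, add_zero]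
        zero_mem' := smul_zero _
        smul_mem' := fun r v hv => hstable v hv r }
    haveI : IsNoetherian R M := isNoetherian_of_isNoetherianRing_of_finite R M
    let Q := M ⧸ Nm
    let π : M ⟶ ModuleCat.of R Q := ModuleCat.ofHom Nm.mkQ
    have hsupp : ∀ {V : Type u} [AddCommGroup V] [Module R V], (∀ v : V, e j • v = 0) →
        (∀ i : Fin N, m + 1 ≤ (i : ℕ) → ∀ v : V, e i • v = 0) → ∀ i : Fin N, m ≤ (i : ℕ) → ∀ v : V, e i • v = 0 := by
      intro V _ _ h1 h2 i hi v
      rcases hi.eq_or_lt with hi' | hi'
      · obtain rfl : i = j := Fin.ext hi'.symm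
        exact h1 v
      · exact h2 i hi' v
    refine (goodMod_of_surjective π (Submodule.mkQ_surjective Nm) ?_).1 ?_
    · haveI : Module.Finite R (LinearMap.ker π.hom) := inferInstance
      refine goodMod_of_supp m _ (hsupp (fun v => Subtype.ext ?_) fun i hi v => Subtype.ext ?_)
      · exact (Submodule.Quotient.mk_eq_zero Nm).1 (LinearMap.mem_ker.1 v.2)
      · exact h i hi _
    -- the quotient is supported at `j` only
    have hQ : ∀ q : Q, e j • q = q := by
      intro q
      obtain ⟨v, rfl⟩ := Submodule.mkQ_surjective Nm q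
      rw [← map_smul]
      refine (Submodule.Quotient.eq Nm).2 ?_
      show e j • (e j • v - v) = 0
      rw [smul_sub, smul_smul, hidem, sub_self]
    letI : Module k Q := Module.compHom Q (algebraMap k R)
    haveI : IsScalarTower k R Q := IsScalarTower.of_algebraMap_smul fun c q => rfl
    haveI : Module.Finite k Q := Module.Finite.trans R Q
    let b := Module.finBasis k Q
    let d := Module.finrank k Q
    let pe : (Fin d → R) →ₗ[R] (Fin d → R) :=
      { toFun := fun x t => x t * e j
        map_add' := fun x y => funext fun t => add_mul _ _ _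
        map_smul' := fun r x => funext fun t => mul_assoc r (x t) (e j) }
    let PP : Submodule R (Fin d → R) := LinearMap.range pe
    have hPP : ∀ x : PP, ∀ t, (x : Fin d → R) t * e j = (x : Fin d → R) t := by
      rintro ⟨_, x, rfl⟩ t
      show x t * e j * e j = x t * e j
      rw [mul_assoc, hidem]
    let pr₀ : (Fin d → R) →ₗ[R] PP := pe.codRestrict PP fun x => LinearMap.mem_range_self pe x
    haveI : Module.Projective R PP := Module.Projective.of_split PP.subtype pr₀
      (LinearMap.ext fun x => Subtype.ext (funext fun t => hPP x t))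
    haveI : Projective (ModuleCat.of R PP) :=
      (IsProjective.iff_projective (R := R) (P := PP)).1 inferInstance
    let τ : PP →ₗ[R] Q := (Fintype.linearCombination R b) ∘ₗ PP.subtype
    have hτ : Function.Surjective τ := fun q => by
      refine ⟨pr₀ fun t => algebraMap k R (b.repr q t), ?_⟩
      show (∑ t, (algebraMap k R (b.repr q t) * e j) • b t) = q
      refine Eq.trans (Finset.sum_congr rfl fun t _ => ?_) (b.sum_repr q)
      rw [mul_smul, hQ]
      rfl
    refine (goodMod_of_surjective (ModuleCat.ofHom τ) hτ ?_).2 (good_single_projective (ModuleCat.of R PP))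
    refine goodMod_of_supp m _ (hsupp (fun v => Subtype.ext (Subtype.ext (funext fun t => ?_))) fun i hi v =>
      Subtype.ext (Subtype.ext (funext fun t => ?_)))
    · have hc : ∀ t, ∃ c : k, e j * (v.1 : Fin d → R) t = algebraMap k R c * e j := fun t => by
        obtain ⟨c, hc⟩ := hdiag j ((v.1 : Fin d → R) t)
        exact ⟨c, by rw [← hc, mul_assoc, hPP]⟩
      choose c hc using hc
      have h0 : ∑ t, c t • b t = 0 := by
        have hv : τ v.1 = 0 := LinearMap.mem_ker.1 v.2
        calc ∑ t, c t • b t = ∑ t, (e j * (v.1 : Fin d → R) t) • b t := Finset.sum_congr rfl fun t _ => by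
              rw [hc, mul_smul, hQ]
              rfl
          _ = e j • τ v.1 := by
              show _ = e j • ∑ t, (v.1 : Fin d → R) t • b t
              rw [Finset.smul_sum]
              exact Finset.sum_congr rfl fun t _ => mul_smul _ _ _
          _ = 0 := by rw [hv, smul_zero]
      show e j * (v.1 : Fin d → R) t = 0
      rw [hc, Fintype.linearIndependent_iff.1 b.linearIndependent c h0 t, map_zero, zero_mul]
    · show e i * (v.1 : Fin d → R) t = 0
      rw [← hPP v.1 t, ← mul_assoc]
      exact htri i j (Nat.lt_of_succ_le hi) _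

include hsum hidem horth htri hdiag in
theorem goodMod_of_finite (M : ModuleCat.{u} R) [Module.Finite R M] : GoodMod M :=
  goodMod_of_supp e hsum hidem horth htri hdiag N M fun i hi => absurd (lt_of_lt_of_le i.2 hi) (lt_irrefl _)

end Module

section Homology

/-- Bounded objects with compact cohomology are compact. -/
theorem good_of_homology (a : ℤ) : ∀ (n : ℕ) (K : DerivedCategory (ModuleCat.{u} R)), K.IsGE a → K.IsLE (a + n - 1) →
    (∀ i, GoodMod ((homologyFunctor (ModuleCat.{u} R) i).obj K)) → Good K
  | 0, K, hge, hle, _ => good_of_isZero (t.isZero K (a + ((0 : ℕ) : ℤ) - 1) a (by omega))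
  | n + 1, K, hge, hle, hK => by
    haveI := hge
    haveI := hle
    let b : ℤ := a + n - 1
    haveI : K.IsLE (b + 1) := t.isLE_of_le K (a + ((n + 1 : ℕ) : ℤ) - 1) (b + 1) (by simp [b]; omega)
    let L := (t.truncLE b).obj K
    let G := (t.truncGT b).obj K
    haveI hLge : L.IsGE a := by
      rw [isGE_iff]
      intro i hi
      by_cases hib : i ≤ b
      · haveI := DerLib.Devissage.isIso_homology_truncLEι K b i hib
        exact (isZero_of_isGE K a i hi).of_iso (asIso ((homologyFunctor _ i).map ((t.truncLEι b).app K)))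
      · exact isZero_of_isLE L b i (by omega)
    have hL : ∀ i, GoodMod ((homologyFunctor (ModuleCat.{u} R) i).obj L) := fun i => by
      by_cases hib : i ≤ b
      · haveI := DerLib.Devissage.isIso_homology_truncLEι K b i hib
        exact (hK i).of_iso ((singleFunctor _ 0).mapIso (asIso ((homologyFunctor _ i).map ((t.truncLEι b).app K))).symm)
      · exact goodMod_of_isZero (isZero_of_isLE L b i (by omega))
    haveI : G.IsLE (b + 1) := by
      rw [isLE_iff]
      intro i hi
      haveI := DerLib.Devissage.isIso_homology_truncGTπ K b i (by omega)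
      exact (isZero_of_isLE K (b + 1) i hi).of_iso
        (asIso ((homologyFunctor _ i).map ((t.truncGTπ b).app K))).symm
    haveI : G.IsGE (b + 1) := inferInstance
    obtain ⟨e⟩ := DerLib.Devissage.nonempty_iso_single G (b + 1)
    haveI := DerLib.Devissage.isIso_homology_truncGTπ K b (b + 1) (by omega)
    have hG : Good G := ((good_single_shift (hK (b + 1)) (b + 1)).of_iso
      ((singleFunctor _ (b + 1)).mapIso (asIso ((homologyFunctor _ (b + 1)).map ((t.truncGTπ b).app K))) ≪≫ e.symm))
    exact good_obj₂ _ (t.triangleLEGT_distinguished b K)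
      (good_of_homology a n L hLge (t.isLE_of_le L b _ le_rfl) hL) hG

/-- A compact object is bounded. -/
theorem finite_support_of_good {K : DerivedCategory (ModuleCat.{u} R)} (hK : Good K) :
    Set.Finite {i : ℤ | Nontrivial ((homologyFunctor (ModuleCat.{u} R) i).obj K)} := by
  classical
  let P := DerivedCategory.Q.objPreimage K
  let eP := DerivedCategory.Q.objObjPreimageIso K
  let I : ULift.{u} ℤ → ModuleCat.{u} R := fun i => Injective.under (P.homology i.down)
  let S : ULift.{u} ℤ → CochainComplex (ModuleCat.{u} R) ℤ :=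
    fun i => (HomologicalComplex.single _ (ComplexShape.up ℤ) i.down).obj (I i)
  let g : ∀ i : ULift.{u} ℤ, P.opcycles i.down ⟶ I i := fun i =>
    Injective.factorThru (Injective.ι (P.homology i.down)) (P.homologyι i.down)
  let φ : ∀ i : ULift.{u} ℤ, P ⟶ S i := fun i =>
    HomologicalComplex.mkHomToSingle (P.pOpcycles i.down ≫ g i) fun j _ => by
      rw [← Category.assoc, HomologicalComplex.d_pOpcycles, zero_comp]
  let Φ : P ⟶ ∐ S :=
    { f := fun j => (φ ⟨j⟩).f j ≫ (Sigma.ι S ⟨j⟩).f j
      comm' := fun i j hij => by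
        rw [Category.assoc, (Sigma.ι S ⟨i⟩).comm i j, ← Category.assoc ((φ ⟨i⟩).f i),
          show (S ⟨i⟩).d i j = 0 from HomologicalComplex.single_obj_d _ _ _ _ _, comp_zero, zero_comp,
          ← Category.assoc, ← (φ ⟨j⟩).comm i j, show (S ⟨j⟩).d i j = 0 from HomologicalComplex.single_obj_d _ _ _ _ _,
          comp_zero, zero_comp] }
  have hΦ : ∀ i, Φ ≫ pr S i = φ i := fun i => by
    refine HomologicalComplex.to_single_hom_ext ?_
    show ((φ ⟨i.down⟩).f i.down ≫ (Sigma.ι S ⟨i.down⟩).f i.down) ≫ (pr S i).f i.down = _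
    rw [Category.assoc, ← HomologicalComplex.comp_f, ι_pr_self]
    exact Category.comp_id _
  let hc := (KFlatLib.isColimit_Q_sigma S).some
  let E := fun i => DerivedCategory.Q.obj (S i)
  let c : DerivedCategory.Q.obj (∐ S) ⟶ ∐ E := Cofan.IsColimit.desc hc fun i => Sigma.ι E i
  have hcp : ∀ i, c ≫ pr E i = DerivedCategory.Q.map (pr S i) := fun i => by
    refine Cofan.IsColimit.hom_ext hc _ _ fun j => ?_
    refine (Category.assoc _ _ _).symm.trans ((congrArg (· ≫ _) (Cofan.IsColimit.fac hc _ j)).trans ?_)
    refine Eq.trans ?_ (DerivedCategory.Q.map_comp _ _)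
    by_cases hji : j = i
    · subst hji
      rw [ι_pr_self, ι_pr_self, CategoryTheory.Functor.map_id]
    · rw [ι_pr_ne E hji, ι_pr_ne S hji, Functor.map_zero]
  obtain ⟨s, hs⟩ := hK _ E (eP.inv ≫ DerivedCategory.Q.map Φ ≫ c)
  refine (s.image ULift.down).finite_toSet.subset fun i hi => by_contra fun his => ?_
  have his' : (⟨i⟩ : ULift.{u} ℤ) ∉ s := fun h => his (Finset.mem_image_of_mem ULift.down h)
  have h0 : DerivedCategory.Q.map (φ ⟨i⟩) = 0 := by
    rw [← hΦ, Functor.map_comp, ← hcp, ← cancel_epi eP.inv, comp_zero]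
    calc eP.inv ≫ DerivedCategory.Q.map Φ ≫ c ≫ pr E ⟨i⟩
        = (eP.inv ≫ DerivedCategory.Q.map Φ ≫ c) ≫ pr E ⟨i⟩ := by simp only [Category.assoc]
      _ = 0 := by rw [← hs, Category.assoc, cut_comp_pr E s his', comp_zero]
  have h1 : HomologicalComplex.homologyMap (φ ⟨i⟩) i = 0 := by
    have := (homologyFunctorFactors (ModuleCat.{u} R) i).hom.naturality (φ ⟨i⟩)
    simp only [Functor.comp_map, h0, Functor.map_zero, zero_comp] at this
    exact (cancel_epi ((homologyFunctorFactors (ModuleCat.{u} R) i).hom.app P)).1 (this.symm.trans comp_zero.symm)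
  have h2 : P.homologyι i ≫ HomologicalComplex.opcyclesMap (φ ⟨i⟩) i = 0 := by
    rw [← HomologicalComplex.homologyι_naturality, h1, zero_comp]
  have h3 : HomologicalComplex.opcyclesMap (φ ⟨i⟩) i ≫
      (HomologicalComplex.singleObjOpcyclesSelfIso (ComplexShape.up ℤ) i (I ⟨i⟩)).inv = g ⟨i⟩ := by
    rw [← cancel_epi (P.pOpcycles i), HomologicalComplex.p_opcyclesMap_assoc]
    simp [φ, S]
  have h4 : Injective.ι (P.homology i) = 0 := by
    rw [← Injective.comp_factorThru (Injective.ι (P.homology i)) (P.homologyι i)]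
    show P.homologyι i ≫ g ⟨i⟩ = 0
    rw [← h3, ← Category.assoc, h2, zero_comp]
  have h5 : IsZero ((homologyFunctor (ModuleCat.{u} R) i).obj K) :=
    (IsZero.of_mono_eq_zero _ h4).of_iso ((homologyFunctor _ i).mapIso eP.symm ≪≫ (homologyFunctorFactors _ i).app P)
  exact not_subsingleton_iff_nontrivial.2 hi (ModuleCat.isZero_iff_subsingleton.1 h5)

variable (k : Type u) [Field k] [Algebra k R] [Module.Finite k R]

include k in
/-- The top cohomology of a compact object is finitely generated. -/
theorem finite_top_of_good {K : DerivedCategory (ModuleCat.{u} R)} (hK : Good K) (b : ℤ) [K.IsLE b] :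
    Module.Finite R ((homologyFunctor (ModuleCat.{u} R) b).obj K) := by
  classical
  let H := homologyFunctor (ModuleCat.{u} R) b
  let G := (t.truncGT (b - 1)).obj K
  haveI : G.IsGE b := by
    rw [isGE_iff]
    intro i hi
    haveI : G.IsGE (b - 1 + 1) := inferInstance
    exact isZero_of_isGE G (b - 1 + 1) i (by omega)
  haveI : G.IsLE b := by
    rw [isLE_iff]
    intro i hi
    haveI := DerLib.Devissage.isIso_homology_truncGTπ K (b - 1) i (by omega)
    exact (isZero_of_isLE K b i hi).of_iso (asIso ((homologyFunctor _ i).map ((t.truncGTπ (b - 1)).app K))).symm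
  haveI := DerLib.Devissage.isIso_homology_truncGTπ K (b - 1) b (by omega)
  obtain ⟨e⟩ := DerLib.Devissage.nonempty_iso_single G b
  let V : ModuleCat.{u} R := H.obj G
  suffices Module.Finite R V from
    Module.Finite.equiv (asIso ((homologyFunctor (ModuleCat.{u} R) b).map ((t.truncGTπ (b - 1)).app K))).symm.toLinearEquiv
  letI : Module k V := Module.compHom V (algebraMap k R)
  haveI : IsScalarTower k R V := IsScalarTower.of_algebraMap_smul fun c q => rfl
  let B := Module.Basis.ofVectorSpace k V
  let J := Module.Basis.ofVectorSpaceIndex k V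
  let Nb : J → Submodule R V := fun x =>
    { carrier := {v | ∀ r : R, B.repr (r • v) x = 0}
      add_mem' := fun {a c} ha hc r => by rw [smul_add, map_add, Finsupp.add_apply, ha r, hc r, add_zero]
      zero_mem' := fun r => by rw [smul_zero, map_zero]; rfl
      smul_mem' := fun r' v hv r => by rw [smul_smul]; exact hv (r * r') }
  let W : J → ModuleCat.{u} R := fun x => ModuleCat.of R (V ⧸ Nb x)
  obtain ⟨G₀, hG₀⟩ := Module.Finite.fg_top (R := k) (M := R)
  have hlf : ∀ v : V, {x | (Nb x).mkQ v ≠ 0}.Finite := fun v => by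
    refine (G₀.biUnion fun r => (B.repr (r • v)).support).finite_toSet.subset fun x hx => by_contra fun hxs => hx ?_
    refine (Submodule.Quotient.mk_eq_zero (Nb x)).2 fun r => ?_
    let L₀ : R →ₗ[k] V :=
      { toFun := fun r => r • v
        map_add' := fun r r' => add_smul r r' v
        map_smul' := fun c r => smul_assoc c r v }
    let L : R →ₗ[k] k := (Finsupp.lapply x).comp (B.repr.toLinearMap.comp L₀)
    have hL : L = 0 := LinearMap.ext_on (hG₀ : Submodule.span k _ = ⊤) fun r hr => by
      show B.repr (r • v) x = 0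
      exact Finsupp.notMem_support_iff.1 fun h => hxs (Finset.mem_coe.2 (Finset.mem_biUnion.2 ⟨r, hr, h⟩))
    exact LinearMap.congr_fun hL r
  let inj : ∀ x, W x ⟶ ∐ W := fun x => Sigma.ι W x
  have hsuppf : ∀ v : V, (Function.support fun x => (inj x).hom ((Nb x).mkQ v)).Finite := fun v =>
    (hlf v).subset fun x hx h0 => hx (by
      show (inj x).hom ((Nb x).mkQ v) = 0
      rw [h0, map_zero])
  let ψ : V ⟶ ∐ W := ModuleCat.ofHom
    { toFun := fun v => ∑ᶠ x, (inj x).hom ((Nb x).mkQ v)
      map_add' := fun v v' => (finsum_congr fun x => by rw [map_add, map_add]).trans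
        (finsum_add_distrib (hsuppf v) (hsuppf v'))
      map_smul' := fun r v => (finsum_congr fun x => by rw [map_smul, map_smul]).trans
        (smul_finsum' r (hsuppf v)).symm }
  have hψ : ∀ x, ψ ≫ pr W x = ModuleCat.ofHom (Nb x).mkQ := fun x => ModuleCat.hom_ext (LinearMap.ext fun v => by
    show (pr W x).hom (∑ᶠ y, (inj y).hom ((Nb y).mkQ v)) = _
    rw [show (pr W x).hom (∑ᶠ y, (inj y).hom ((Nb y).mkQ v)) = ∑ᶠ y, (pr W x).hom ((inj y).hom ((Nb y).mkQ v)) from
      AddMonoidHom.map_finsum (pr W x).hom.toAddMonoidHom (hsuppf v)]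
    rw [finsum_eq_single _ x fun y hy => ?_]
    · exact LinearMap.congr_fun (congrArg ModuleCat.Hom.hom (ι_pr_self W x)) _
    · exact LinearMap.congr_fun (congrArg ModuleCat.Hom.hom (ι_pr_ne W hy)) _)
  let Sb := singleFunctor (ModuleCat.{u} R) b
  haveI : PreservesColimit (Discrete.functor W) Sb := by
    let C : J → CochainComplex (ModuleCat.{u} R) ℤ := fun x => (CochainComplex.singleFunctor _ b).obj (W x)
    haveI : PreservesColimit (Discrete.functor C) (DerivedCategory.Q (C := ModuleCat.{u} R)) :=
      preservesColimit_of_preserves_colimit_cocone (coproductIsCoproduct C)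
        ((Cofan.isColimitMapCoconeEquiv _ _ (Cofan.mk (∐ C) (Sigma.ι C))).symm (KFlatLib.isColimit_Q_sigma C).some)
    haveI : PreservesColimit (Discrete.functor W ⋙ CochainComplex.singleFunctor _ b)
        (DerivedCategory.Q (C := ModuleCat.{u} R)) :=
      @preservesColimit_of_iso_diagram _ _ _ _ _ _ (Discrete.functor C) _ _ (Discrete.natIso fun _ => Iso.refl _) ‹_›
    haveI : PreservesColimit (Discrete.functor W) (CochainComplex.singleFunctor (ModuleCat.{u} R) b) :=
      inferInstanceAs (PreservesColimit _ (HomologicalComplex.single (ModuleCat.{u} R) (ComplexShape.up ℤ) b))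
    exact preservesColimit_of_natIso _ (DerivedCategory.singleFunctorIsoCompQ (ModuleCat.{u} R) b).symm
  let E := fun x => Sb.obj (W x)
  let c := PreservesCoproduct.iso Sb W
  have hcp : ∀ x, c.hom ≫ pr E x = Sb.map (pr W x) := fun x => by
    rw [← cancel_epi c.inv, Iso.inv_hom_id_assoc]
    refine Sigma.hom_ext _ _ fun y => ?_
    rw [show c.inv = sigmaComparison Sb W from PreservesCoproduct.inv_hom Sb W]
    erw [ι_comp_sigmaComparison_assoc]
    rw [← Functor.map_comp]
    by_cases hyx : y = x
    · subst hyx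
      rw [ι_pr_self, ι_pr_self, CategoryTheory.Functor.map_id]
    · rw [ι_pr_ne E hyx, ι_pr_ne W hyx, Functor.map_zero]
  obtain ⟨s, hs⟩ := hK _ E (((t.truncGTπ (b - 1)).app K ≫ e.hom) ≫ Sb.map ψ ≫ c.hom)
  have hsJ : ∀ x : J, x ∈ s := fun x => by_contra fun hx => by
    have h0 : ((t.truncGTπ (b - 1)).app K ≫ e.hom) ≫ Sb.map (ψ ≫ pr W x) = 0 := by
      rw [Functor.map_comp, ← hcp]
      calc ((t.truncGTπ (b - 1)).app K ≫ e.hom) ≫ Sb.map ψ ≫ c.hom ≫ pr E x
          = (((t.truncGTπ (b - 1)).app K ≫ e.hom) ≫ Sb.map ψ ≫ c.hom) ≫ pr E x := by simp only [Category.assoc]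
        _ = 0 := by rw [← hs, Category.assoc, cut_comp_pr E s hx, comp_zero]
    have h1 := congrArg (homologyFunctor (ModuleCat.{u} R) b).map h0
    rw [Functor.map_comp, Functor.map_comp, Functor.map_zero] at h1
    have h2 : (homologyFunctor (ModuleCat.{u} R) b).map (Sb.map (ψ ≫ pr W x)) = 0 :=
      (cancel_epi ((homologyFunctor (ModuleCat.{u} R) b).map ((t.truncGTπ (b - 1)).app K) ≫
        (homologyFunctor (ModuleCat.{u} R) b).map e.hom)).1 (h1.trans comp_zero.symm)
    have h3 : ψ ≫ pr W x = 0 := by
      have hn := (singleFunctorCompHomologyFunctorIso (ModuleCat.{u} R) b).hom.naturality (ψ ≫ pr W x)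
      exact (cancel_epi ((singleFunctorCompHomologyFunctorIso (ModuleCat.{u} R) b).hom.app V)).1
        (hn.symm.trans (((congrArg (· ≫ _) h2).trans zero_comp).trans comp_zero.symm))
    rw [hψ] at h3
    have h4 := (Submodule.Quotient.mk_eq_zero (Nb x)).1 (LinearMap.congr_fun (congrArg ModuleCat.Hom.hom h3) (B x)) 1
    rw [one_smul, B.repr_self, Finsupp.single_eq_same] at h4
    exact one_ne_zero h4
  haveI : Finite J := Finite.of_injective (fun x : J => (⟨x, hsJ x⟩ : s)) fun x y h => congrArg Subtype.val h
  haveI : Module.Finite k V := Module.Finite.of_basis B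
  exact Module.Finite.of_restrictScalars_finite k R V

end Homology

end Groth.Agent.BeilCompactLib
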